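import Groth.Agent.IdealMulSec.Basic
import Groth.Agent.QC.Generated

/-!
Artin–Rees for quasi-coherent submodules of coherent modules.
-/

set_option autoImplicit false
set_option backward.isDefEq.respectTransparency false
set_option linter.style.haveILetI false

universe u

open CategoryTheory CategoryTheory.Limits AlgebraicGeometry TopologicalSpace Opposite

noncomputable section

namespace Groth.Agent.IdealMulSec

open Groth.Agent.QC

variable {X : Scheme.{u}}

theorem isQCoh_idealMul (J : X.IdealSheafData) {M : X.Modules} (hM : Coh.IsQCoh M) :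
    Coh.IsQCoh ((Dual3.idealMul J).obj M) :=
  isQCoh_kernel hM (by
    haveI := isQCoh_pullback J.subschemeι hM
    exact isQCoh_pushforward J.subschemeι) _

/-- A morphism out of a quasi-coherent module vanishing on the members of an affine cover is zero. -/
theorem hom_eq_zero_of_cover {κ : Type u} (U : κ → X.Opens) (hU : ∀ i, IsAffineOpen (U i))
    (hcov : ∀ x : X, ∃ i, x ∈ U i) {M N : X.Modules} (hM : Coh.IsQCoh M) (φ : M ⟶ N)
    (h : ∀ i (s : Γ(M, U i)), φ.app (U i) s = 0) : φ = 0 := by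
  refine hom_eq_zero φ fun W s => section_eq_of_locally fun x hx => ?_
  obtain ⟨i, hi⟩ := hcov x
  obtain ⟨f, hf, hxf⟩ := (hU i).exists_basicOpen_le (V := W.1) ⟨x, hx⟩ hi
  refine ⟨_, hf, hxf, ?_⟩
  obtain ⟨n, t, ht⟩ := (isLoc_of_isQCoh (hU i) (hM := hM)).exists_extend f (res M hf s)
  rw [map_zero, app_res]
  have h1 : φ.app (X.basicOpen f) (resO X (X.basicOpen_le f) f ^ n • res M hf s) = 0 := by
    rw [← ht, ← app_res, h i t, map_zero]
  rw [Scheme.Modules.Hom.app_smul] at h1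
  exact (IsUnit.smul_eq_zero ((Groth.Agent.QC.isUnit_resO_basicOpen (hU i) f).pow n)).1 h1

/-- Factorisation through a monomorphism from inclusions of ranges on an affine cover. -/
theorem mk_le_mk {κ : Type u} (U : κ → X.Opens) (hU : ∀ i, IsAffineOpen (U i))
    (hcov : ∀ x : X, ∃ i, x ∈ U i) {A B F : X.Modules} (hA : Coh.IsQCoh A) (φ : A ⟶ F) (ψ : B ⟶ F)
    [Mono φ] [Mono ψ] (h : ∀ i, LinearMap.range (appₗ φ (U i)) ≤ LinearMap.range (appₗ ψ (U i))) :
    Subobject.mk φ ≤ Subobject.mk ψ := by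
  have h0 : φ ≫ cokernel.π ψ = 0 := hom_eq_zero_of_cover U hU hcov hA _ fun i s => by
    obtain ⟨b, hb⟩ := h i ⟨s, rfl⟩
    rw [Scheme.Modules.Hom.comp_app, ConcreteCategory.comp_apply]
    exact (congrArg _ hb.symm).trans
      (ConcreteCategory.congr_hom (congrArg (fun α => α.app (U i)) (cokernel.condition ψ)) b)
  let T := ShortComplex.mk ψ (cokernel.π ψ) (cokernel.condition ψ)
  have hT : T.Exact := ShortComplex.exact_of_g_is_cokernel T (cokernelIsCokernel ψ)
  haveI : Mono T.f := ‹Mono ψ›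
  exact Subobject.mk_le_mk_of_comm (hT.lift φ h0) (hT.lift_f _ h0)

theorem range_idealMulι_comp (J : X.IdealSheafData) {P F : X.Modules} (hP : Coh.IsQCoh P) (p : P ⟶ F)
    (U : X.affineOpens) :
    LinearMap.range (appₗ (Dual3.idealMulι J P ≫ p) U.1) = J.ideal U • LinearMap.range (appₗ p U.1) := by
  rw [← Submodule.map_top (appₗ p U.1), ← Submodule.map_smul'']
  ext t
  constructor
  · rintro ⟨s, rfl⟩
    exact ⟨(Dual3.idealMulι J P).app U.1 s, (range_idealMulι J hP U _).mp ⟨s, rfl⟩, rfl⟩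
  · rintro ⟨m, hm, rfl⟩
    obtain ⟨s, rfl⟩ := (range_idealMulι J hP U m).mpr hm
    exact ⟨s, rfl⟩

theorem range_idealMulι_pow (J : X.IdealSheafData) {F : X.Modules} (hF : Coh.IsQCoh F) (n : ℕ)
    (U : X.affineOpens) :
    LinearMap.range (appₗ (Dual3.idealMulι (J ^ n) F) U.1) =
      J.ideal U ^ n • (⊤ : Submodule Γ(X, U.1) Γ(F, U.1)) := by
  ext t
  have h : (J ^ n).ideal U = J.ideal U ^ n := by rw [Scheme.IdealSheafData.ideal_pow]; rfl
  rw [← h]
  exact range_idealMulι (J ^ n) hF U t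

/-- An intersection of submodules, sectionwise. -/
theorem exists_inf {A G F : X.Modules} (a : A ⟶ F) (ι : G ⟶ F) [Mono a] [Mono ι] (hA : Coh.IsQCoh A)
    (hG : Coh.IsQCoh G) (hF : Coh.IsQCoh F) :
    ∃ (K : X.Modules) (j : K ⟶ F) (_ : Mono j), Coh.IsQCoh K ∧ Subobject.mk a ⊓ Subobject.mk ι = Subobject.mk j ∧
      ∀ U : X.Opens, LinearMap.range (appₗ j U) = LinearMap.range (appₗ a U) ⊓ LinearMap.range (appₗ ι U) := by
  let g := ι ≫ cokernel.π a
  let T := ShortComplex.mk a (cokernel.π a) (cokernel.condition a)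
  have hT : T.Exact := ShortComplex.exact_of_g_is_cokernel T (cokernelIsCokernel a)
  haveI : Mono T.f := ‹Mono a›
  have hk : (kernel.ι g ≫ ι) ≫ cokernel.π a = 0 := (Category.assoc _ _ _).trans (kernel.condition g)
  refine ⟨kernel g, kernel.ι g ≫ ι, inferInstance, isQCoh_kernel hG (isQCoh_cokernel hA hF a) g, ?_, fun U => ?_⟩
  · refine le_antisymm (Subobject.le_mk_of_comm (kernel.lift g
      (Subobject.ofLE _ _ inf_le_right ≫ (Subobject.underlyingIso ι).hom) ?_) ?_) (le_inf ?_ ?_)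
    · have h1 : (Subobject.ofLE _ _ (inf_le_right : Subobject.mk a ⊓ Subobject.mk ι ≤ _) ≫
          (Subobject.underlyingIso ι).hom) ≫ ι =
          (Subobject.ofLE _ _ (inf_le_left : Subobject.mk a ⊓ Subobject.mk ι ≤ _) ≫ (Subobject.underlyingIso a).hom) ≫ a := by
        simp
      rw [show g = ι ≫ cokernel.π a from rfl, ← Category.assoc, h1, Category.assoc, cokernel.condition, comp_zero]
    · rw [kernel.lift_ι_assoc, Category.assoc, Subobject.underlyingIso_hom_comp_eq_mk, Subobject.ofLE_arrow]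
    · exact Subobject.mk_le_mk_of_comm (hT.lift _ hk) (hT.lift_f _ hk)
    · exact Subobject.mk_le_mk_of_comm (kernel.ι g) rfl
  · ext t
    constructor
    · rintro ⟨s, rfl⟩
      exact ⟨⟨(hT.lift _ hk).app U s,
        ConcreteCategory.congr_hom (congrArg (fun α => α.app U) (hT.lift_f _ hk)) s⟩, (kernel.ι g).app U s, rfl⟩
    · rintro ⟨⟨x, hx⟩, y, rfl⟩
      have h0 : g.app U y = 0 := by
        show (cokernel.π a).app U (ι.app U y) = 0
        rw [show ι.app U y = a.app U x from hx.symm]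
        exact ConcreteCategory.congr_hom (congrArg (fun α => α.app U) (cokernel.condition a)) x
      obtain ⟨s, hs⟩ := (mem_range_kernel_app g U y).mpr h0
      exact ⟨s, congrArg (ι.app U) hs⟩

theorem artinRees [IsNoetherian X] {F G : X.Modules} (hF : Coh.IsCoh F) (hG : Coh.IsQCoh G) (ι : G ⟶ F)
    [Mono ι] (I : X.IdealSheafData) :
    ∃ c : ℕ, ∀ n : ℕ, c ≤ n →
      Subobject.mk (Dual3.idealMulι (I ^ (n - c))
          (Subobject.underlying.obj (Subobject.mk (Dual3.idealMulι (I ^ c) F) ⊓ Subobject.mk ι)) ≫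
        (Subobject.mk (Dual3.idealMulι (I ^ c) F) ⊓ Subobject.mk ι).arrow) =
      Subobject.mk (Dual3.idealMulι (I ^ n) F) ⊓ Subobject.mk ι := by
  obtain ⟨κ, hκ, U, hU, -, hcov⟩ := exists_finite_affine_cover (X := X) (W := ⊤) (by simpa using isCompact_univ)
  have hAR : ∀ i, ∃ k, ∀ n ≥ k, (I.ideal ⟨U i, hU i⟩ ^ n • (⊤ : Submodule Γ(X, U i) Γ(F, U i))) ⊓ LinearMap.range (appₗ ι (U i)) =
      I.ideal ⟨U i, hU i⟩ ^ (n - k) • ((I.ideal ⟨U i, hU i⟩ ^ k • (⊤ : Submodule Γ(X, U i) Γ(F, U i))) ⊓ LinearMap.range (appₗ ι (U i))) := fun i => by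
    haveI : IsNoetherianRing Γ(X, U i) := IsLocallyNoetherian.component_noetherian ⟨U i, hU i⟩
    haveI := (isCoh_iff_finite_sections.1 hF).2 ⟨U i, hU i⟩
    exact Ideal.exists_pow_inf_eq_pow_smul _ _
  choose k hk using hAR
  refine ⟨Finset.univ.sup k, fun n hn => ?_⟩
  obtain ⟨K, j, _, hK, hKeq, hKr⟩ := exists_inf (Dual3.idealMulι (I ^ Finset.univ.sup k) F) ι (isQCoh_idealMul _ hF.1) hG hF.1
  obtain ⟨L, l, _, hL, hLeq, hLr⟩ := exists_inf (Dual3.idealMulι (I ^ n) F) ι (isQCoh_idealMul _ hF.1) hG hF.1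
  rw [hLeq, hKeq]
  have hP : Coh.IsQCoh (Subobject.mk j : X.Modules) := isQCoh_of_iso (Subobject.underlyingIso j).symm hK
  have hr : ∀ i, LinearMap.range (appₗ (Dual3.idealMulι (I ^ (n - Finset.univ.sup k)) (Subobject.mk j : X.Modules) ≫ (Subobject.mk j).arrow) (U i)) =
      LinearMap.range (appₗ l (U i)) := fun i => by
    rw [range_idealMulι_comp _ hP _ ⟨U i, hU i⟩, Scheme.IdealSheafData.ideal_pow, Pi.pow_apply, hLr,
      range_idealMulι_pow I hF.1 n ⟨U i, hU i⟩]
    have hj : LinearMap.range (appₗ (Subobject.mk j).arrow (U i)) = LinearMap.range (appₗ j (U i)) := by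
      refine le_antisymm ?_ ?_
      · rintro _ ⟨s, rfl⟩
        exact ⟨(Subobject.underlyingIso j).hom.app (U i) s,
          ConcreteCategory.congr_hom (congrArg (fun α => α.app (U i)) (Subobject.underlyingIso_hom_comp_eq_mk j)) s⟩
      · rintro _ ⟨s, rfl⟩
        exact ⟨(Subobject.underlyingIso j).inv.app (U i) s,
          ConcreteCategory.congr_hom (congrArg (fun α => α.app (U i)) (Subobject.underlyingIso_arrow j)) s⟩
    have hki : k i ≤ Finset.univ.sup k := Finset.le_sup (Finset.mem_univ i)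
    rw [hj, hKr, range_idealMulι_pow I hF.1 _ ⟨U i, hU i⟩, hk i n (hki.trans hn), hk i _ hki, ← Submodule.mul_smul, ← pow_add]
    congr 2
    omega
  exact le_antisymm
    (mk_le_mk U hU (fun x => hcov x trivial) (isQCoh_idealMul _ hP) _ _ fun i => (hr i).le)
    (mk_le_mk U hU (fun x => hcov x trivial) hL _ _ fun i => (hr i).ge)

end Groth.Agent.IdealMulSec
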