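import Groth.Agent.Devissage.Apply2
import Groth.Agent.QC.IdealMod

/-!
Sections of `I · F` on affine opens.
-/

set_option autoImplicit false
set_option backward.isDefEq.respectTransparency false

universe u

open CategoryTheory CategoryTheory.Limits AlgebraicGeometry TopologicalSpace Opposite

noncomputable section

namespace Groth.Agent.IdealMulSec

open Groth.Agent.QC Groth.Agent.Devissage

variable {X : Scheme.{u}}

/-- A morphism vanishing on affine opens is zero. -/
theorem hom_eq_zero {M N : X.Modules} (φ : M ⟶ N)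
    (h : ∀ (U : X.affineOpens) (s : Γ(M, U.1)), φ.app U.1 s = 0) : φ = 0 := by
  refine Scheme.Modules.hom_ext _ _ ?_
  intro O
  ext s
  show φ.app O s = 0
  refine section_eq_of_locally fun x hx => ?_
  obtain ⟨W, hW, hxW, hWO⟩ := exists_isAffineOpen_mem_and_subset hx
  refine ⟨W, hWO, hxW, ?_⟩
  rw [map_zero, app_res φ hWO s, h ⟨W, hW⟩]

theorem range_idealMulι (I : X.IdealSheafData) {M : X.Modules} (hM : Coh.IsQCoh M) (U : X.affineOpens)
    (s : Γ(M, U.1)) :
    s ∈ Set.range ((Dual3.idealMulι I M).app U.1) ↔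
      s ∈ (I.ideal U) • (⊤ : Submodule Γ(X, U.1) Γ(M, U.1)) := by
  let η := (Scheme.Modules.pullbackPushforwardAdjunction I.subschemeι).unit
  refine (mem_range_kernel_app (η.app M) U.1 s).trans ⟨fun hs => ?_, fun hs => ?_⟩
  · let S := powSub I 1 M hM
    let p := cokernel.π S.ι
    have hq : Coh.IsQCoh (cokernel S.ι) := isQCoh_cokernel (isQCoh_powSub I 1 hM) hM S.ι
    have hmem : ∀ (V : X.affineOpens) (t : Γ(M, V.1)),
        t ∈ (I.ideal V) • (⊤ : Submodule Γ(X, V.1) Γ(M, V.1)) → p.app V.1 t = 0 := fun V t ht => by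
      obtain ⟨a, rfl⟩ := (S.range_ι_app V.1 t).mpr ((mem_powSub_affine I 1 hM V t).mpr (by rwa [pow_one]))
      exact ConcreteCategory.congr_hom (congrArg (fun φ => φ.app V.1) (cokernel.condition S.ι)) a
    have hk : ClSub.KilledByIdeal I (cokernel S.ι) := fun V a ha m => by
      obtain ⟨t, rfl⟩ := app_surjective_of_epi V.2 hM hq p m
      show a • p.app V.1 t = 0
      rw [← Scheme.Modules.Hom.app_smul]
      exact hmem V _ (Submodule.smul_mem_smul ha trivial)
    haveI := ClSubLib.isIso_unit I.subschemeι (cokernel S.ι) (by rwa [Scheme.IdealSheafData.ker_subschemeι])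
    have h1 : p = η.app M ≫ (Scheme.Modules.pullback I.subschemeι ⋙ Scheme.Modules.pushforward I.subschemeι).map p ≫
        inv (η.app (cokernel S.ι)) := by
      rw [← η.naturality_assoc, IsIso.hom_inv_id, Category.comp_id]
      rfl
    have h2 : p.app U.1 s = 0 := by
      rw [h1, Scheme.Modules.Hom.comp_app, ConcreteCategory.comp_apply]
      exact (congrArg _ hs).trans (map_zero _)
    have h3 : s ∈ Set.range (S.ι.app U.1) := by
      haveI : Mono S.ι := (mono_iff_app_injective _).mpr fun O => S.ι_app_injective O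
      have := (mem_range_kernel_app p U.1 s).mpr h2
      obtain ⟨b, hb⟩ := this
      let T := ShortComplex.mk S.ι p (cokernel.condition S.ι)
      have hT : T.Exact := ShortComplex.exact_of_g_is_cokernel T (cokernelIsCokernel S.ι)
      refine ⟨(hT.lift (kernel.ι p) (kernel.condition p)).app U.1 b, ?_⟩
      rw [← hb]
      exact ConcreteCategory.congr_hom (congrArg (fun φ => φ.app U.1) (hT.lift_f (kernel.ι p) (kernel.condition p))) b
    have h4 := (mem_powSub_affine I 1 hM U s).mp ((S.range_ι_app U.1 s).mp h3)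
    rwa [pow_one] at h4
  · refine Submodule.smul_induction_on hs (fun a ha m _ => ?_) fun a b ha hb => by rw [map_add, ha, hb, add_zero]
    rw [Scheme.Modules.Hom.app_smul]
    have h0 : I.subschemeι.app U.1 a = 0 := by
      rw [← RingHom.mem_ker, ← Scheme.Hom.ker_apply, Scheme.IdealSheafData.ker_subschemeι]
      exact ha
    show (I.subschemeι.app U.1).hom a • (show Γ((Scheme.Modules.pullback I.subschemeι).obj M, I.subschemeι ⁻¹ᵁ U.1) from (η.app M).app U.1 m) = 0
    rw [show (I.subschemeι.app U.1).hom a = 0 from h0, zero_smul]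

end Groth.Agent.IdealMulSec
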